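import Groth.Agent.HopfOrdLib.BaseChange

/-! Deligne's theorem: a finite locally free commutative group scheme is killed by its order. -/

set_option autoImplicit false

noncomputable section

namespace HopfOrdLib

open TensorProduct WithConv Coalgebra

universe u v

variable {R : Type u} [CommRing R] {A : Type v} [CommRing A] [HopfAlgebra R A] [IsCocomm R A]

local notation "𝒞" => WithConv (A →ₗ[R] A)
local notation "ℰ" => 𝒞 ⊗[R] A

/-- An `A`-point as an element of the convolution algebra. -/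
def iota : A →ₐ[R] 𝒞 :=
  { algebraMap A 𝒞 with
    commutes' := fun r => WithConv.ext (LinearMap.ext fun a => by
      show algebraMap R A r • algebraMap R A (counit a) = r • algebraMap R A (counit a)
      rw [algebraMap_smul]) }

/-- `c ↦ x • c` -/
theorem mul_iota_apply (c : 𝒞) (x a : A) : (c * iota x).ofConv a = x * c.ofConv a := by
  show (c * algebraMap A 𝒞 x).ofConv a = x * c.ofConv a
  rw [← Algebra.commutes x c, ← Algebra.smul_def]
  rfl

/-- Translation by an algebra map `f : A → 𝒞`. -/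
def transl (f : WithConv (A →ₐ[R] 𝒞)) : ℰ →ₐ[𝒞] ℰ :=
  Algebra.TensorProduct.lift (Algebra.ofId 𝒞 ℰ)
    ((Algebra.TensorProduct.map f.ofConv (AlgHom.id R A)).comp (Bialgebra.comulAlgHom R A))
    fun _ _ => Commute.all _ _

theorem transl_tmul {ι : Type*} (f : WithConv (A →ₐ[R] 𝒞)) (c : 𝒞) {a : A} (𝓡 : Coalgebra.Repr R a ι) :
    transl f (c ⊗ₜ a) = ∑ i ∈ 𝓡.index, (c * f (𝓡.left i)) ⊗ₜ 𝓡.right i := by
  rw [transl, Algebra.TensorProduct.lift_tmul, AlgHom.comp_apply, Bialgebra.comulAlgHom_apply, ← 𝓡.eq]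
  simp only [map_sum, Algebra.TensorProduct.map_tmul, Finset.mul_sum]
  refine Finset.sum_congr rfl fun i _ => ?_
  rw [Algebra.ofId_apply, Algebra.TensorProduct.algebraMap_apply, Algebra.TensorProduct.tmul_mul_tmul,
    Algebra.algebraMap_self, RingHom.id_apply, one_mul]
  rfl

theorem transl_one : transl (1 : WithConv (A →ₐ[R] 𝒞)) = AlgHom.id 𝒞 ℰ := by
  apply Algebra.TensorProduct.ext' (S := 𝒞)
  intro c a
  rw [transl_tmul (1 : WithConv (A →ₐ[R] 𝒞)) c (ℛ R a)]
  simp only [AlgHom.convOne_apply, AlgHom.id_apply]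
  calc ∑ i ∈ (ℛ R a).index, (c * algebraMap R 𝒞 (counit ((ℛ R a).left i))) ⊗ₜ[R] (ℛ R a).right i
      = ∑ i ∈ (ℛ R a).index, c ⊗ₜ[R] (counit (R := R) ((ℛ R a).left i) • (ℛ R a).right i) :=
        Finset.sum_congr rfl fun i _ => by rw [← smul_tmul, mul_comm, ← Algebra.smul_def]
    _ = c ⊗ₜ a := by rw [← tmul_sum, Coalgebra.sum_counit_smul]

theorem transl_comp (f g : WithConv (A →ₐ[R] 𝒞)) : (transl f).comp (transl g) = transl (g * f) := by
  apply Algebra.TensorProduct.ext' (S := 𝒞)
  intro c a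
  let 𝓡 := ℛ R a
  rw [AlgHom.comp_apply, transl_tmul g c 𝓡, map_sum, transl_tmul (g * f) c 𝓡]
  let Φ : A ⊗[R] (A ⊗[R] A) →ₗ[R] ℰ :=
    (TensorProduct.map (LinearMap.mulLeft R c ∘ₗ LinearMap.mul' R 𝒞 ∘ₗ
      TensorProduct.map g.ofConv.toLinearMap f.ofConv.toLinearMap) LinearMap.id) ∘ₗ
      (TensorProduct.assoc R A A A).symm.toLinearMap
  have hΦ : ∀ x y z : A, Φ (x ⊗ₜ (y ⊗ₜ z)) = (c * (g x * f y)) ⊗ₜ z := fun x y z => rfl
  have h := congrArg Φ (Coalgebra.sum_tmul_tmul_eq 𝓡 (fun i => ℛ R (𝓡.left i)) (fun i => ℛ R (𝓡.right i)))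
  simp only [map_sum, hΦ] at h
  calc ∑ i ∈ 𝓡.index, transl f ((c * g (𝓡.left i)) ⊗ₜ[R] 𝓡.right i)
      = ∑ i ∈ 𝓡.index, ∑ j ∈ (ℛ R (𝓡.right i)).index,
          (c * (g (𝓡.left i) * f ((ℛ R (𝓡.right i)).left j))) ⊗ₜ[R] (ℛ R (𝓡.right i)).right j :=
        Finset.sum_congr rfl fun i _ => by simp only [transl_tmul f _ (ℛ R (𝓡.right i)), mul_assoc]
    _ = ∑ i ∈ 𝓡.index, ∑ j ∈ (ℛ R (𝓡.left i)).index,
          (c * (g ((ℛ R (𝓡.left i)).left j) * f ((ℛ R (𝓡.left i)).right j))) ⊗ₜ[R] 𝓡.right i := h.symm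
    _ = ∑ i ∈ 𝓡.index, (c * (g * f) (𝓡.left i)) ⊗ₜ[R] 𝓡.right i :=
        Finset.sum_congr rfl fun i _ => by
          rw [AlgHom.convMul_apply, ← (ℛ R (𝓡.left i)).eq]
          simp only [map_sum, Algebra.TensorProduct.lift_tmul, Finset.mul_sum, TensorProduct.sum_tmul]

/-- Translation by the identity point is an automorphism. -/
def translEquiv : ℰ ≃ₐ[𝒞] ℰ :=
  AlgEquiv.ofAlgHom (transl (toConv (iota (R := R) (A := A))))
    (transl (toConv ((iota (R := R) (A := A)).comp (HopfAlgebra.antipodeAlgHom R A))))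
    (by
      rw [transl_comp]
      refine Eq.trans (congrArg transl ?_) transl_one
      apply ofConv_injective; apply AlgHom.toLinearMap_injective; apply toConv_injective
      rw [AlgHom.toLinearMap_convMul, AlgHom.toLinearMap_convOne]
      have h := congrArg (fun φ : WithConv (A →ₗ[R] A) => toConv ((iota (R := R) (A := A)).toLinearMap ∘ₗ φ.ofConv))
        (LinearMap.antipode_mul_id (R := R) (C := A))
      simp only [LinearMap.algHom_comp_convMul_distrib, toConv_ofConv] at h
      exact h.trans (WithConv.ext (LinearMap.ext fun a => (iota (R := R) (A := A)).commutes _)))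
    (by
      rw [transl_comp]
      refine Eq.trans (congrArg transl ?_) transl_one
      apply ofConv_injective; apply AlgHom.toLinearMap_injective; apply toConv_injective
      rw [AlgHom.toLinearMap_convMul, AlgHom.toLinearMap_convOne]
      have h := congrArg (fun φ : WithConv (A →ₗ[R] A) => toConv ((iota (R := R) (A := A)).toLinearMap ∘ₗ φ.ofConv))
        (LinearMap.id_mul_antipode (R := R) (C := A))
      simp only [LinearMap.algHom_comp_convMul_distrib, toConv_ofConv] at h
      exact h.trans (WithConv.ext (LinearMap.ext fun a => (iota (R := R) (A := A)).commutes _)))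

variable {n : ℕ} (b : Module.Basis (Fin n) R A)

/-- coordinate functionals as elements of `C` -/
def cc (i : Fin n) : 𝒞 := toConv (Algebra.linearMap R A ∘ₗ b.coord i)

/-- The universal element. -/
def univX : ℰ := ∑ i, cc b i ⊗ₜ b i

/-- its inverse -/
def univX' : ℰ := ∑ i, toConv ((cc b i).ofConv ∘ₗ HopfAlgebra.antipode R) ⊗ₜ b i

/-- coefficient at `b l` -/
def coeffAt (l : Fin n) : ℰ →ₗ[R] 𝒞 :=
  (TensorProduct.rid R 𝒞).toLinearMap ∘ₗ (b.coord l).lTensor 𝒞

omit [IsCocomm R A] in
theorem coeffAt_tmul (l : Fin n) (c : 𝒞) (a : A) : coeffAt b l (c ⊗ₜ a) = b.coord l a • c := by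
  simp [coeffAt]

omit [IsCocomm R A] in
theorem eq_of_coeffAt {z z' : ℰ} (h : ∀ l, coeffAt b l z = coeffAt b l z') : z = z' := by
  have key : ∀ y : ℰ, y = ∑ l, coeffAt b l y ⊗ₜ b l := fun y => by
    induction y using TensorProduct.induction_on with
    | zero => simp
    | tmul c a =>
      simp only [coeffAt_tmul, smul_tmul, Module.Basis.coord_apply]
      rw [← tmul_sum, b.sum_repr]
    | add y y' hy hy' =>
      simp only [map_add, add_tmul, Finset.sum_add_distrib, ← hy, ← hy']
  rw [key z, key z', Finset.sum_congr rfl fun l _ => congrArg (· ⊗ₜ[R] b l) (h l)]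

theorem isUnit_univX : IsUnit (univX b) := by
  refine IsUnit.of_mul_eq_one (univX' b) (eq_of_coeffAt b fun l => ?_)
  rw [Algebra.TensorProduct.one_def, coeffAt_tmul]
  simp only [univX, univX', Finset.sum_mul, Finset.mul_sum, map_sum, Algebra.TensorProduct.tmul_mul_tmul, coeffAt_tmul]
  apply WithConv.ext
  apply LinearMap.ext
  intro a
  let 𝓡 := ℛ R a
  simp only [ofConv_sum, ofConv_smul, LinearMap.coe_sum, Finset.sum_apply, LinearMap.smul_apply]
  have hprod : ∀ i j, (cc b i * toConv ((cc b j).ofConv ∘ₗ HopfAlgebra.antipode R)).ofConv a =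
      algebraMap R A (∑ r ∈ 𝓡.index, b.coord i (𝓡.left r) * b.coord j (HopfAlgebra.antipode R (𝓡.right r))) := fun i j => by
    rw [show (cc b i * toConv ((cc b j).ofConv ∘ₗ HopfAlgebra.antipode R)).ofConv a =
      (cc b i * toConv ((cc b j).ofConv ∘ₗ HopfAlgebra.antipode R)) a from rfl, 𝓡.convMul_apply, map_sum]
    exact Finset.sum_congr rfl fun r _ => (map_mul (algebraMap R A) _ _).symm
  simp only [hprod, Algebra.smul_def, ← map_mul, ← map_sum]
  show _ = algebraMap R A (b.coord l 1) * algebraMap R A (counit a)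
  rw [← map_mul]
  congr 1
  have hS : ∑ r ∈ 𝓡.index, 𝓡.left r * HopfAlgebra.antipode R (𝓡.right r) = algebraMap R A (counit a) :=
    HopfAlgebra.sum_mul_antipode_eq_algebraMap_counit 𝓡
  have h2 := congrArg (b.coord l) hS
  rw [map_sum, Algebra.algebraMap_eq_smul_one, map_smul, smul_eq_mul] at h2
  rw [mul_comm (b.coord l 1), ← h2, Finset.sum_comm]
  simp only [Finset.mul_sum]
  rw [Finset.sum_comm]
  refine Eq.trans (Finset.sum_congr rfl fun j _ => Finset.sum_comm) ?_
  rw [Finset.sum_comm]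
  refine Finset.sum_congr rfl fun r _ => ?_
  conv_rhs => rw [← b.sum_repr (𝓡.left r), ← b.sum_repr (HopfAlgebra.antipode R (𝓡.right r))]
  simp only [Finset.sum_mul, Finset.mul_sum, smul_mul_smul_comm, map_sum, map_smul, smul_eq_mul, Module.Basis.coord_apply]
  exact Finset.sum_congr rfl fun i _ => Finset.sum_congr rfl fun j _ => by ring

theorem transl_univX : translEquiv (univX b) = algebraMap 𝒞 ℰ (toConv LinearMap.id) * univX b := by
  apply eq_of_coeffAt b
  intro l
  rw [Algebra.TensorProduct.algebraMap_apply, Algebra.algebraMap_self, RingHom.id_apply]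
  simp only [univX, Finset.mul_sum, map_sum, Algebra.TensorProduct.tmul_mul_tmul, one_mul, coeffAt_tmul]
  have ht : ∀ i, translEquiv (cc b i ⊗ₜ[R] b i) =
      ∑ r ∈ (ℛ R (b i)).index, (cc b i * iota ((ℛ R (b i)).left r)) ⊗ₜ[R] (ℛ R (b i)).right r := fun i =>
    transl_tmul (toConv iota) (cc b i) (ℛ R (b i))
  simp only [ht, map_sum, coeffAt_tmul]
  apply WithConv.ext
  apply LinearMap.ext
  intro a
  simp only [ofConv_sum, ofConv_smul, LinearMap.coe_sum, Finset.sum_apply, LinearMap.smul_apply]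
  let q : A →ₗ[R] A := (TensorProduct.rid R A).toLinearMap ∘ₗ (b.coord l).lTensor A ∘ₗ comul
  have hq : ∀ {ι : Type v} {x : A} (𝓡 : Coalgebra.Repr R x ι), q x = ∑ r ∈ 𝓡.index, b.coord l (𝓡.right r) • 𝓡.left r :=
    fun {ι x} 𝓡 => by simp [q, ← 𝓡.eq]
  have hL : ∀ i, ∑ r ∈ (ℛ R (b i)).index, b.coord l ((ℛ R (b i)).right r) •
      (cc b i * iota ((ℛ R (b i)).left r)).ofConv a = b.coord i a • q (b i) := fun i => by
    rw [hq (ℛ R (b i)), Finset.smul_sum]
    refine Finset.sum_congr rfl fun r _ => ?_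
    rw [mul_iota_apply (cc b i) _ a, smul_comm]
    congr 1
    rw [show (cc b i).ofConv a = algebraMap R A (b.coord i a) from rfl, mul_comm, ← Algebra.smul_def]
  rw [Finset.sum_congr rfl fun i _ => hL i]
  have h2 : ∑ i, b.coord l (b i) • (toConv LinearMap.id * cc b i).ofConv a = (toConv LinearMap.id * cc b l).ofConv a := by
    simp [Finsupp.single_apply, Finset.sum_ite_eq', eq_comm]
  rw [h2, show ∑ i, b.coord i a • q (b i) = q a by simp only [← map_smul, ← map_sum, Module.Basis.coord_apply, b.sum_repr],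
    hq (ℛ R a)]
  refine Eq.trans ?_ ((ℛ R a).convMul_apply (toConv LinearMap.id) (cc b l)).symm
  refine Finset.sum_congr rfl fun r _ => ?_
  rw [Algebra.smul_def, mul_comm]
  rfl

theorem convPow_linear_eq_one (b : Module.Basis (Fin n) R A) : (toConv LinearMap.id : 𝒞) ^ n = 1 := by
  have bE : Module.Basis (Fin n) 𝒞 ℰ := Algebra.TensorProduct.basis 𝒞 b
  have h1 := congrArg (Algebra.norm 𝒞) (transl_univX b)
  replace h1 := (Algebra.norm_eq_of_algEquiv (translEquiv (R := R) (A := A)) (univX b)).symm.trans h1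
  rw [map_mul, Algebra.norm_algebraMap_of_basis bE, Fintype.card_fin] at h1
  exact ((isUnit_univX b).map (Algebra.norm 𝒞)).mul_right_cancel (h1.symm.trans (one_mul _).symm)

theorem convPow_id_eq_one_of_free [Module.Free R A] [Module.Finite R A] :
    (toConv (AlgHom.id R A)) ^ (Module.finrank R A) = 1 := by
  rcases subsingleton_or_nontrivial R with hR | hR
  · haveI : Subsingleton A := Module.subsingleton R A
    exact WithConv.ext (AlgHom.ext fun a => Subsingleton.elim _ _)
  apply ofConv_injective; apply AlgHom.toLinearMap_injective; apply toConv_injective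
  rw [AlgHom.toLinearMap_convPow, AlgHom.toLinearMap_convOne]
  exact convPow_linear_eq_one (Module.finBasis R A)

end HopfOrdLib

namespace HopfOrdLib

open TensorProduct WithConv Coalgebra

/-- Deligne's theorem. -/
theorem convPow_id_eq_one {R : Type*} [CommRing R] {A : Type*} [CommRing A] [HopfAlgebra R A] [IsCocomm R A]
    [Module.Finite R A] [Module.Projective R A] {n : ℕ} (hn : ∀ p : PrimeSpectrum R, Module.rankAtStalk A p = n) :
    (toConv (AlgHom.id R A)) ^ n = 1 := by
  apply ofConv_injective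
  ext a
  rw [← sub_eq_zero]
  refine Module.eq_zero_of_localization_maximal _
    (fun (P : Ideal R) (_ : P.IsMaximal) => TensorProduct.mk R (Localization.AtPrime P) A 1) _ fun P _ => ?_
  haveI : Module.Flat (Localization.AtPrime P) (Localization.AtPrime P ⊗[R] A) := inferInstance
  haveI : Module.Free (Localization.AtPrime P) (Localization.AtPrime P ⊗[R] A) :=
    Module.free_of_flat_of_isLocalRing
  let K := Localization.AtPrime P
  let q : PrimeSpectrum K := Classical.arbitrary _
  have hfr : Module.finrank K (K ⊗[R] A) = n := by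
    have h1 := congrFun (Module.rankAtStalk_eq_finrank_of_free (R := K) (M := K ⊗[R] A)) q
    rw [Module.rankAtStalk_baseChange, hn] at h1
    simpa using h1.symm
  have h2 := HopfOrdLib.convPow_id_eq_one_of_free (R := K) (A := K ⊗[R] A)
  rw [hfr, ← bc_id, ← bc_pow, ← bc_one (R := R) (A := A) K] at h2
  have h3 := congrArg (fun φ : WithConv (K ⊗[R] A →ₐ[K] K ⊗[R] A) => φ (1 ⊗ₜ a)) h2
  simp only [bc_tmul] at h3
  rw [map_sub, sub_eq_zero]
  exact h3

end HopfOrdLib
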