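import Mathlib

/-! Base change of convolution powers of endomorphisms of a Hopf algebra. -/

set_option autoImplicit false

noncomputable section

namespace HopfOrdLib

open TensorProduct WithConv Coalgebra

universe u v w

variable {R : Type u} [CommRing R] {A : Type v} [CommRing A] [HopfAlgebra R A]
variable (K : Type w) [CommRing K] [Algebra R K]

/-- A representation of the comultiplication of `1 ⊗ a`. -/
def reprOne {ι : Type*} {a : A} (𝓡 : Coalgebra.Repr R a ι) :
    Coalgebra.Repr K ((1 : K) ⊗ₜ[R] a) ι where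
  index := 𝓡.index
  left i := 1 ⊗ₜ 𝓡.left i
  right i := 1 ⊗ₜ 𝓡.right i
  eq := by
    simp only [TensorProduct.comul_tmul, ← 𝓡.eq, CommSemiring.comul_apply, tmul_sum, map_sum]
    exact Finset.sum_congr rfl fun i _ => rfl

/-- Base change of an algebra endomorphism, as an element of the convolution monoid. -/
def bc (f : WithConv (A →ₐ[R] A)) : WithConv (K ⊗[R] A →ₐ[K] K ⊗[R] A) :=
  toConv (Algebra.TensorProduct.map (AlgHom.id K K) f.ofConv)

@[simp] theorem bc_tmul (f : WithConv (A →ₐ[R] A)) (x : K) (a : A) :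
    (bc K f) (x ⊗ₜ a) = x ⊗ₜ f a := rfl

theorem bc_one : bc K (1 : WithConv (A →ₐ[R] A)) = 1 := by
  apply ofConv_injective
  apply Algebra.TensorProduct.ext' (S := K)
  intro x a
  show (bc K 1) (x ⊗ₜ a) = (1 : WithConv (K ⊗[R] A →ₐ[K] K ⊗[R] A)) (x ⊗ₜ a)
  rw [bc_tmul, AlgHom.convOne_apply, AlgHom.convOne_apply, TensorProduct.counit_tmul, Algebra.algebraMap_eq_smul_one (R := R),
    tmul_smul, CommSemiring.counit_apply, Algebra.algebraMap_eq_smul_one, Algebra.TensorProduct.one_def,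
    ← algebraMap_smul K (Coalgebra.counit (R := R) a) (x ⊗ₜ[R] (1 : A)), smul_tmul', smul_tmul']
  congr 1
  simp [Algebra.smul_def, mul_comm]

theorem bc_mul (f g : WithConv (A →ₐ[R] A)) : bc K (f * g) = bc K f * bc K g := by
  apply ofConv_injective
  apply Algebra.TensorProduct.ext' (S := K)
  intro x a
  show (bc K (f * g)) (x ⊗ₜ a) = (bc K f * bc K g) (x ⊗ₜ a)
  rw [show (x ⊗ₜ[R] a : K ⊗[R] A) = x • (1 ⊗ₜ a) by rw [smul_tmul', smul_eq_mul, mul_one]]
  rw [show (bc K (f * g)) (x • (1 ⊗ₜ a)) = x • (bc K (f * g)) (1 ⊗ₜ a) from map_smul (bc K (f * g)).ofConv x _,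
    show (bc K f * bc K g) (x • (1 ⊗ₜ a)) = x • (bc K f * bc K g) (1 ⊗ₜ a) from map_smul (bc K f * bc K g).ofConv x _]
  congr 1
  rw [bc_tmul, AlgHom.convMul_apply, AlgHom.convMul_apply, ← (ℛ R a).eq, ← (reprOne K (ℛ R a)).eq]
  simp only [map_sum, Algebra.TensorProduct.lift_tmul, reprOne, tmul_sum]
  refine Finset.sum_congr rfl fun i _ => ?_
  show _ = (bc K f) (1 ⊗ₜ _) * (bc K g) (1 ⊗ₜ _)
  rw [bc_tmul, bc_tmul, Algebra.TensorProduct.tmul_mul_tmul, one_mul]

theorem bc_pow (f : WithConv (A →ₐ[R] A)) (n : ℕ) : bc K (f ^ n) = bc K f ^ n := by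
  induction n with
  | zero => rw [pow_zero, pow_zero, bc_one]
  | succ n ih => rw [pow_succ, pow_succ, bc_mul, ih]

theorem bc_id : bc K (toConv (AlgHom.id R A)) = toConv (AlgHom.id K (K ⊗[R] A)) := by
  apply ofConv_injective
  exact Algebra.TensorProduct.ext' fun x a => rfl

end HopfOrdLib
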