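import Groth.Agent.HopfFFLib.Order
import Groth.Prelude.Def_CartDual
import Mathlib.Algebra.CharP.Lemmas
import Mathlib.GroupTheory.OrderOfElement

/-! Hopf algebras of prime order over an algebraically closed field. -/

set_option autoImplicit false

noncomputable section

namespace HopfOrdLib

open TensorProduct WithConv Coalgebra
open Groth.Agent.GrpSchLib.HopfRed Groth.Agent.HopfFF

universe u v

variable {K : Type u} [Field K] {B : Type v} [CommRing B] [HopfAlgebra K B]

/-- A point as an element of the dual algebra. -/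
def ptD (g : WithConv (B →ₐ[K] K)) : CartDual.D K B := toConv g.ofConv.toLinearMap

theorem ptD_pow (g : WithConv (B →ₐ[K] K)) (j : ℕ) : ptD (g ^ j) = ptD g ^ j :=
  AlgHom.toLinearMap_convPow g j

theorem isUnit_point (g : WithConv (B →ₐ[K] K)) : IsUnit g := by
  have h : ∀ φ : WithConv (B →ₗ[K] B), φ = 1 →
      toConv (g.ofConv.toLinearMap ∘ₗ φ.ofConv) = (1 : WithConv (B →ₗ[K] K)) := fun φ hφ => by
    subst hφ
    exact WithConv.ext (LinearMap.ext fun a => g.ofConv.commutes _)
  refine ⟨⟨g, toConv (g.ofConv.comp (HopfAlgebra.antipodeAlgHom K B)), ?_, ?_⟩, rfl⟩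
  · apply ofConv_injective; apply AlgHom.toLinearMap_injective; apply toConv_injective
    rw [AlgHom.toLinearMap_convMul, AlgHom.toLinearMap_convOne]
    have h' := h _ (LinearMap.id_mul_antipode (R := K) (C := B))
    rw [LinearMap.algHom_comp_convMul_distrib, toConv_ofConv] at h'
    exact h'
  · apply ofConv_injective; apply AlgHom.toLinearMap_injective; apply toConv_injective
    rw [AlgHom.toLinearMap_convMul, AlgHom.toLinearMap_convOne]
    have h' := h _ (LinearMap.antipode_mul_id (R := K) (C := B))
    rw [LinearMap.algHom_comp_convMul_distrib, toConv_ofConv] at h'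
    exact h'

variable (K B) in
/-- The two kinds of group schemes of prime order `p` over an algebraically closed field:
étale (`p` points, a cyclic group) or infinitesimal (in characteristic `p`). -/
def Etale (p : ℕ) : Prop :=
  ∃ g : WithConv (B →ₐ[K] K), g ^ p = 1 ∧
    Function.Bijective fun (b : B) (i : Fin p) => (g ^ (i : ℕ)) b

variable (K B) in
/-- The infinitesimal kind. -/
def Infinitesimal (p : ℕ) : Prop :=
  CharP K p ∧ ∃ (f : B →ₗ[K] K) (x : B), (∀ a b, f (a * b) = f a * counit (R := K) b + counit (R := K) a * f b) ∧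
    counit (R := K) x = 0 ∧ f x = 1

theorem dichotomy [IsAlgClosed K] [Module.Finite K B] {p : ℕ} [hp : Fact p.Prime]
    (hd : Module.finrank K B = p) : Etale K B p ∨ Infinitesimal K B p := by
  classical
  haveI : IsArtinianRing B := IsArtinianRing.of_finite K B
  haveI : Finite (B →ₐ[K] K) := inferInstance
  obtain ⟨hcard, hbot⟩ := card_points_mul (k := K) (A := B) _ rfl
  set q := Module.finrank K (B ⧸ compIdeal K B)
  rw [hd] at hcard
  rcases (Nat.dvd_prime hp.out).1 ⟨_, hcard.trans (mul_comm _ _)⟩ with h1 | h1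
  · left
    rw [h1, mul_one] at hcard
    rw [h1, pow_one] at hbot
    haveI : Finite (WithConv (B →ₐ[K] K)) := Finite.of_equiv _ (WithConv.equiv _).symm
    have hG : Nat.card (WithConv (B →ₐ[K] K)) = p := by
      rw [Nat.card_congr (WithConv.equiv (B →ₐ[K] K)), ← hcard]
    let U : (WithConv (B →ₐ[K] K))ˣ ≃ WithConv (B →ₐ[K] K) :=
      Equiv.ofBijective Units.val ⟨fun a b h => Units.ext h, fun g => ⟨(isUnit_point g).unit, rfl⟩⟩
    haveI : Finite (WithConv (B →ₐ[K] K))ˣ := Finite.of_equiv _ U.symm
    have hU : Nat.card (WithConv (B →ₐ[K] K))ˣ = p := by rw [Nat.card_congr U, hG]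
    haveI : Nontrivial (WithConv (B →ₐ[K] K))ˣ := Finite.one_lt_card_iff_nontrivial.1 (hU ▸ hp.out.one_lt)
    obtain ⟨g, hg⟩ := exists_ne (1 : (WithConv (B →ₐ[K] K))ˣ)
    have hgp : g ^ p = 1 := by rw [← hU]; exact pow_card_eq_one'
    have hord : orderOf g = p := orderOf_eq_prime hgp hg
    refine ⟨(g : WithConv (B →ₐ[K] K)), by rw [← Units.val_pow_eq_pow_val, hgp, Units.val_one], ?_⟩
    have hinjpow : Function.Injective fun i : Fin p => g ^ (i : ℕ) := fun i j h =>
      Fin.ext (pow_injOn_Iio_orderOf (by simp [hord]) (by simp [hord]) h)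
    have hsurj : ∀ g' : B →ₐ[K] K, ∃ i : Fin p, ((g : WithConv (B →ₐ[K] K)) ^ (i : ℕ)).ofConv = g' := by
      intro g'
      haveI := Fintype.ofFinite (WithConv (B →ₐ[K] K))ˣ
      have hb : Function.Bijective fun i : Fin p => g ^ (i : ℕ) :=
        (Fintype.bijective_iff_injective_and_card _).2 ⟨hinjpow, by rw [Fintype.card_fin, ← Nat.card_eq_fintype_card, hU]⟩
      obtain ⟨i, hi⟩ := hb.2 (U.symm (toConv g'))
      refine ⟨i, ?_⟩
      rw [← Units.val_pow_eq_pow_val]
      show ((fun i : Fin p => g ^ (i : ℕ)) i).val.ofConv = g'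
      rw [hi]
      exact congrArg WithConv.ofConv (U.apply_symm_apply (toConv g'))
    let ev : B →ₗ[K] (Fin p → K) :=
      LinearMap.pi fun i : Fin p => ((g : WithConv (B →ₐ[K] K)) ^ (i : ℕ)).ofConv.toLinearMap
    have hevinj : Function.Injective ev := (injective_iff_map_eq_zero ev).2 fun b hb => by
      have : b ∈ ⨅ g' : B →ₐ[K] K, RingHom.ker g' := Submodule.mem_iInf _ |>.2 fun g' => by
        obtain ⟨i, hi⟩ := hsurj g'
        rw [← hi]
        exact congrFun hb i
      rwa [hbot, Ideal.mem_bot] at this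
    exact ⟨hevinj, (LinearMap.injective_iff_surjective_of_finrank_eq_finrank
      (by rw [hd, Module.finrank_fin_fun])).1 hevinj⟩
  · right
    rw [h1] at hcard hbot
    have hone : Nat.card (B →ₐ[K] K) = 1 := by
      have := hcard.symm
      have hp0 := hp.out.pos
      nlinarith
    obtain ⟨hss, ⟨g₀⟩⟩ := Nat.card_eq_one_iff_unique.1 hone
    have hker : ∀ g : B →ₐ[K] K, RingHom.ker g = augI K B := fun g => by rw [Subsingleton.elim g (cou (k := K))]
    haveI : Nonempty (B →ₐ[K] K) := ⟨g₀⟩
    rw [iInf_congr hker, iInf_const] at hbot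
    haveI : IsLocalRing B := by
      refine IsLocalRing.of_unique_max_ideal ⟨augI K B, inferInstance, fun M hM => ?_⟩
      haveI := hM
      obtain ⟨g, hg⟩ := exists_point (k := K) M
      rw [← hg, hker]
    obtain ⟨n, hn⟩ := exists_finrank_eq_expChar_pow (k := K) (ringExpChar K) B
    rw [hd] at hn
    have hq : ringExpChar K = p := by
      rcases (Nat.Prime.pow_eq_iff hp.out).1 hn.symm with ⟨h, -⟩
      exact h
    haveI hchar : CharP K p := by
      haveI : ExpChar K p := hq ▸ inferInstance
      rcases ‹ExpChar K p› with _ | h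
      · exact absurd rfl hp.out.ne_one
      · infer_instance
    refine ⟨hchar, ?_⟩
    set m := augI K B
    have hm : ¬ m ≤ m ^ 2 := fun hle => by
      have hsq : m ^ 2 = m := le_antisymm (Ideal.pow_le_self two_ne_zero) hle
      have hpow : ∀ j, m ^ (j + 1) = m := fun j => by
        induction j with
        | zero => rw [pow_one]
        | succ j ih => rw [pow_succ, ih, ← sq, hsq]
      obtain ⟨j, hj⟩ := Nat.exists_eq_succ_of_ne_zero hp.out.ne_zero
      have hm0 : m = ⊥ := by rw [← hpow j, ← hbot, hj]
      have hinj : Function.Injective (cou (k := K) (B := B)) := (injective_iff_map_eq_zero _).2 fun a ha => by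
        have : a ∈ m := ha
        rwa [hm0, Ideal.mem_bot] at this
      have h := LinearMap.finrank_le_finrank_of_injective (f := (cou (k := K) (B := B)).toLinearMap) hinj
      rw [hd, Module.finrank_self] at h
      exact absurd hp.out.one_lt (not_lt.2 h)
    obtain ⟨x, hx, hx2⟩ := SetLike.not_le_iff_exists.1 hm
    let V : Submodule K B := Submodule.span K {1} ⊔ (m ^ 2).restrictScalars K
    have hxV : x ∉ V := fun h => by
      obtain ⟨c, hc, y, hy, hcy⟩ := Submodule.mem_sup.1 h
      obtain ⟨r, rfl⟩ := Submodule.mem_span_singleton.1 hc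
      have hy' : cou (k := K) y = 0 := Ideal.pow_le_self two_ne_zero hy
      have := congrArg (cou (k := K) (B := B)) hcy
      rw [map_add, map_smul, map_one, hy', (show cou (k := K) x = 0 from hx), add_zero, smul_eq_mul, mul_one] at this
      subst this
      rw [zero_smul, zero_add] at hcy
      exact hx2 (hcy ▸ hy)
    obtain ⟨f, hfx, hfV⟩ := Submodule.exists_dual_map_eq_bot_of_notMem hxV inferInstance
    refine ⟨(f x)⁻¹ • f, x, fun a b => ?_, hx, inv_mul_cancel₀ hfx⟩
    have hV : ∀ v ∈ V, f v = 0 := fun v hv =>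
      (Submodule.mem_bot K).1 (hfV ▸ Submodule.mem_map_of_mem hv)
    have hsub : ∀ a : B, a - algebraMap K B (counit (R := K) a) ∈ m := fun a => sub_mem_augI (k := K) a
    have h1 : f 1 = 0 := hV 1 (Submodule.mem_sup_left (Submodule.subset_span rfl))
    have h2 : f ((a - algebraMap K B (counit (R := K) a)) * (b - algebraMap K B (counit (R := K) b))) = 0 :=
      hV _ (Submodule.mem_sup_right (by
        rw [Submodule.restrictScalars_mem, pow_two]; exact Ideal.mul_mem_mul (hsub a) (hsub b)))
    have e : a * b = (a - algebraMap K B (counit (R := K) a)) * (b - algebraMap K B (counit (R := K) b)) +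
        counit (R := K) b • a + counit (R := K) a • b - (counit (R := K) a * counit (R := K) b) • (1 : B) := by
      simp only [Algebra.smul_def, map_mul]
      ring
    simp only [LinearMap.smul_apply, smul_eq_mul]
    rw [e, map_sub, map_add, map_add, map_smul, map_smul, map_smul, h1, h2]
    simp only [smul_eq_mul]
    ring

/-! ### the derivation attached to a functional -/

/-- `(id ⊗ f) ∘ Δ` -/
def opOf (f : B →ₗ[K] K) : B →ₗ[K] B :=
  (TensorProduct.rid K B).toLinearMap ∘ₗ f.lTensor B ∘ₗ comul

theorem convMul_eq_opOf (g : CartDual.D K B) (f : B →ₗ[K] K) (a : B) :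
    (g * toConv f).ofConv a = g.ofConv (opOf f a) := by
  rw [show (g * toConv f).ofConv a = (g * toConv f) a from rfl, (ℛ K a).convMul_apply, opOf,
    LinearMap.comp_apply, LinearMap.comp_apply, ← (ℛ K a).eq]
  simp [mul_comm]

/-- The invariant derivation. -/
def derOf (f : B →ₗ[K] K) (hf : ∀ a b, f (a * b) = f a * counit (R := K) b + counit (R := K) a * f b) :
    Derivation K B B :=
  Derivation.mk' (opOf f) fun a b => by
    let lam : B ⊗[K] B →ₗ[K] B := (TensorProduct.rid K B).toLinearMap ∘ₗ f.lTensor B
    let E : B ⊗[K] B →ₗ[K] B := (TensorProduct.rid K B).toLinearMap ∘ₗ (counit (R := K) (A := B)).lTensor B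
    have h : ∀ s t : B ⊗[K] B, lam (s * t) = lam s * E t + E s * lam t := fun s t => by
      induction s using TensorProduct.induction_on with
      | zero => simp
      | tmul x y =>
        induction t using TensorProduct.induction_on with
        | zero => simp
        | tmul x' y' =>
          simp [lam, E, Algebra.TensorProduct.tmul_mul_tmul, hf, add_smul, smul_smul, mul_comm]
        | add t t' ht ht' => simp only [mul_add, map_add, ht, ht']; ring
      | add s s' hs hs' => simp only [add_mul, map_add, hs, hs']; ring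
    have hE : ∀ c : B, E (comul (R := K) c) = c := fun c => by
      simp [E, Coalgebra.lTensor_counit_comul]
    show lam (comul (R := K) (a * b)) = a • lam (comul (R := K) b) + b • lam (comul (R := K) a)
    rw [Bialgebra.comul_mul, h, hE, hE, smul_eq_mul, smul_eq_mul]
    ring

variable {f : B →ₗ[K] K} (hf : ∀ a b, f (a * b) = f a * counit (R := K) b + counit (R := K) a * f b)

include hf in
theorem pow_toConv_apply (j : ℕ) (a : B) :
    ((toConv f : CartDual.D K B) ^ j).ofConv a = counit (R := K) ((derOf f hf)^[j] a) := by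
  induction j generalizing a with
  | zero => rfl
  | succ j ih => rw [pow_succ, convMul_eq_opOf, ih, Function.iterate_succ_apply]; rfl

include hf in
theorem counit_derOf (a : B) : counit (R := K) (derOf f hf a) = f a := by
  have h := pow_toConv_apply hf 1 a
  rw [pow_one] at h
  exact h.symm

include hf in
theorem pow_toConv_apply_pow {x : B} (hx : counit (R := K) x = 0) (hfx : f x = 1) {j n : ℕ} (hjn : j ≤ n) :
    ((toConv f : CartDual.D K B) ^ j).ofConv (x ^ n) = if j = n then (n.factorial : K) else 0 := by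
  set D := derOf f hf
  have hmem : ∀ (i : ℕ) (y : B), x ^ (i + 1) ∣ y → x ^ i ∣ D y := by
    rintro i y ⟨z, rfl⟩
    rw [D.leibniz, D.leibniz_pow, smul_eq_mul, smul_eq_mul, smul_eq_mul, Nat.add_sub_cancel, nsmul_eq_mul]
    exact dvd_add (dvd_mul_of_dvd_left (pow_dvd_pow x i.le_succ) _) ⟨z * (((i + 1 : ℕ) : B) * D x), by ring⟩
  have key : ∀ j, j ≤ n → x ^ (n - j + 1) ∣ D^[j] (x ^ n) - (n.descFactorial j : B) * (D x) ^ j * x ^ (n - j) := by
    intro j
    induction j with
    | zero => intro _; simp
    | succ j ih =>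
      intro hj
      obtain ⟨i, hi⟩ : ∃ i, n - j = i + 1 := ⟨n - j - 1, by omega⟩
      have h0 := ih (by omega)
      rw [hi] at h0
      have h := hmem (i + 1) _ h0
      rw [map_sub, ← Function.iterate_succ_apply' D] at h
      rw [show n - (j + 1) = i by omega]
      have e : D ((n.descFactorial j : B) * D x ^ j * x ^ (i + 1)) - (n.descFactorial (j + 1) : B) * D x ^ (j + 1) * x ^ i =
          x ^ (i + 1) * D ((n.descFactorial j : B) * D x ^ j) := by
        rw [D.leibniz, D.leibniz_pow, Nat.descFactorial_succ, hi]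
        simp only [smul_eq_mul, nsmul_eq_mul, Nat.add_sub_cancel, Nat.cast_mul]
        ring
      have := dvd_add h (Dvd.intro _ e.symm)
      rwa [sub_add_sub_cancel] at this
  obtain ⟨z, hz⟩ := key j hjn
  rw [sub_eq_iff_eq_add] at hz
  rw [pow_toConv_apply hf, hz]
  have hmul : ∀ a b : B, counit (R := K) (a * b) = counit (R := K) a * counit (R := K) b := Bialgebra.counit_mul
  simp only [map_add, hmul, Bialgebra.counit_pow, hx, Bialgebra.counit_natCast, counit_derOf hf, hfx, one_pow, mul_one,
    zero_pow (Nat.succ_ne_zero _), zero_mul, zero_add]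
  split_ifs with h
  · subst h
    rw [Nat.sub_self, pow_zero, mul_one, Nat.descFactorial_self,
      show counit (R := K) (D x) = 1 from (counit_derOf hf x).trans hfx, one_pow, mul_one]
  · rw [zero_pow (by omega), mul_zero]

omit [HopfAlgebra K B] in
theorem linearIndependent_of_triangular [Algebra K B] {M : Type*} [AddCommGroup M] [Module K M] {p : ℕ} (v : Fin p → M)
    (e : Fin p → (M →ₗ[K] K)) (h0 : ∀ i j, j < i → e i (v j) = 0) (h1 : ∀ i, e i (v i) ≠ 0) :
    LinearIndependent K v := by
  rw [Fintype.linearIndependent_iff]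
  intro c hc i
  induction hk : p - (i : ℕ) using Nat.strong_induction_on generalizing i with
  | _ k ih =>
    have h := congrArg (e i) hc
    rw [map_sum, map_zero, Finset.sum_eq_single i (fun j _ hj => ?_) (fun h => absurd (Finset.mem_univ i) h)] at h
    · rw [map_smul, smul_eq_mul, mul_eq_zero] at h
      exact h.resolve_right (h1 i)
    · rw [map_smul, smul_eq_mul]
      rcases lt_or_gt_of_ne hj with hlt | hgt
      · rw [h0 i j hlt, mul_zero]
      · rw [ih (p - (j : ℕ)) (by have := j.2; have : (i : ℕ) < j := hgt; omega) j rfl, zero_mul]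

theorem exists_powers_linearIndependent [IsAlgClosed K] [Module.Finite K B] {p : ℕ} [hp : Fact p.Prime]
    (hd : Module.finrank K B = p) :
    ∃ ξ : CartDual.D K B, LinearIndependent K fun i : Fin p => ξ ^ (i : ℕ) := by
  classical
  rcases dichotomy hd with ⟨g, -, hg⟩ | ⟨hchar, f, x, hf, hx, hfx⟩
  · refine ⟨ptD g, ?_⟩
    rw [Fintype.linearIndependent_iff]
    intro c hc i
    obtain ⟨b, hb⟩ := hg.2 (Pi.single i 1)
    have h := congrArg (fun z : CartDual.D K B => z.ofConv b) hc
    simp only [← ptD_pow, ofConv_sum, ofConv_smul, LinearMap.coe_sum, Finset.sum_apply, LinearMap.smul_apply, smul_eq_mul,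
      ofConv_zero, LinearMap.zero_apply] at h
    have hv : ∀ j : Fin p, (ptD (g ^ (j : ℕ))).ofConv b = if j = i then 1 else 0 := fun j => by
      show (g ^ (j : ℕ)) b = _
      exact (congrFun hb j).trans (Pi.single_apply ..)
    simpa [hv] using h
  · refine ⟨toConv f, ?_⟩
    refine linearIndependent_of_triangular (B := B) _
      (fun i => (LinearMap.applyₗ (x ^ (i : ℕ))) ∘ₗ (CartDual.toDual K B).toLinearMap) (fun i j hj => ?_) (fun i => ?_)
    · show ((toConv f : CartDual.D K B) ^ (j : ℕ)).ofConv (x ^ (i : ℕ)) = 0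
      rw [pow_toConv_apply_pow hf hx hfx (le_of_lt hj), if_neg fun h => hj.ne (Fin.ext h)]
    · show ((toConv f : CartDual.D K B) ^ (i : ℕ)).ofConv (x ^ (i : ℕ)) ≠ 0
      rw [pow_toConv_apply_pow hf hx hfx le_rfl, if_pos rfl, Ne, CharP.cast_eq_zero_iff K p]
      exact fun h => absurd ((hp.out.dvd_factorial).1 h) (not_le.2 i.2)

end HopfOrdLib
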