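import Groth.Agent.HopfOrdLib.BaseChange
import Groth.Agent.HopfOrdLib.Closed

/-! Group schemes of prime order are commutative. -/

set_option autoImplicit false

noncomputable section

namespace HopfOrdLib

open TensorProduct WithConv Coalgebra

universe u v w

variable {R : Type u} [CommRing R] {A : Type v} [CommRing A] [HopfAlgebra R A]

theorem isCocomm_of_dual_comm [Module.Finite R A] [Module.Projective R A]
    (h : ∀ x y : CartDual.D R A, x * y = y * x) : Coalgebra.IsCocomm R A := by
  refine ⟨LinearMap.ext fun a => ?_⟩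
  rw [LinearMap.comp_apply, LinearEquiv.coe_coe, ← sub_eq_zero]
  refine (Module.forall_dual_apply_eq_zero_iff R _).1 fun ψ => ?_
  obtain ⟨y, rfl⟩ := (CartDual.ev₂ R A).surjective ψ
  induction y using TensorProduct.induction_on with
  | zero => simp
  | add y y' hy hy' => simp only [map_add, LinearMap.add_apply, hy, hy', add_zero]
  | tmul x x' =>
    have hsym : CartDual.ev₂ R A (x ⊗ₜ[R] x') (TensorProduct.comm R A A (comul a)) =
        CartDual.ev₂ R A (x' ⊗ₜ[R] x) (comul a) := by
      induction comul (R := R) a using TensorProduct.induction_on with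
      | zero => simp
      | tmul b c => simp [mul_comm]
      | add t t' ht ht' => simp only [map_add, ht, ht']
    have hmul : ∀ x x' : CartDual.D R A, CartDual.ev₂ R A (x ⊗ₜ[R] x') (comul a) = (x * x').ofConv a := fun x x' => by
      rw [show (x * x').ofConv a = (x * x') a from rfl, (ℛ R a).convMul_apply, ← (ℛ R a).eq, map_sum]
      simp [CartDual.coe_apply]
    rw [map_sub, hsym, hmul, hmul, h, sub_self]

variable (K : Type w) [CommRing K] [Algebra R K]

/-- Base change of functionals. -/
def dualBC (x : CartDual.D R A) : CartDual.D K (K ⊗[R] A) :=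
  toConv ((AlgebraTensorModule.rid R K K).toLinearMap ∘ₗ AlgebraTensorModule.map LinearMap.id x.ofConv)

theorem dualBC_tmul (x : CartDual.D R A) (c : K) (a : A) :
    (dualBC K x).ofConv (c ⊗ₜ a) = x.ofConv a • c := by
  simp [dualBC]

theorem dualBC_mul (x y : CartDual.D R A) : dualBC K (x * y) = dualBC K x * dualBC K y := by
  apply WithConv.ext
  apply LinearMap.ext
  intro z
  induction z using TensorProduct.induction_on with
  | zero => simp
  | add z z' hz hz' => simp only [map_add, hz, hz']
  | tmul c a =>
    rw [show (c ⊗ₜ[R] a : K ⊗[R] A) = c • (1 ⊗ₜ a) by rw [smul_tmul', smul_eq_mul, mul_one], map_smul, map_smul]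
    congr 1
    rw [dualBC_tmul, show (dualBC K x * dualBC K y).ofConv ((1 : K) ⊗ₜ[R] a) = (dualBC K x * dualBC K y) (1 ⊗ₜ a) from rfl,
      (reprOne K (ℛ R a)).convMul_apply, show (x * y).ofConv a = (x * y) a from rfl, (ℛ R a).convMul_apply, Finset.sum_smul]
    refine Finset.sum_congr rfl fun i _ => ?_
    show _ = (dualBC K x).ofConv (1 ⊗ₜ _) * (dualBC K y).ofConv (1 ⊗ₜ _)
    rw [dualBC_tmul, dualBC_tmul, smul_mul_smul_comm, one_mul]

theorem dualBC_one : dualBC K (1 : CartDual.D R A) = 1 := by
  apply WithConv.ext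
  apply LinearMap.ext
  intro z
  induction z using TensorProduct.induction_on with
  | zero => simp
  | add z z' hz hz' => simp only [map_add, hz, hz']
  | tmul c a =>
    rw [dualBC_tmul]
    show algebraMap R R (counit (R := R) a) • c = algebraMap K K (counit (R := K) (c ⊗ₜ[R] a))
    rw [TensorProduct.counit_tmul]
    simp

/-- Base change of functionals as a ring homomorphism. -/
def dualBCHom : CartDual.D R A →+* CartDual.D K (K ⊗[R] A) where
  toFun := dualBC K
  map_one' := dualBC_one K
  map_mul' := dualBC_mul K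
  map_zero' := WithConv.ext (LinearMap.ext fun z => by
    induction z using TensorProduct.induction_on with
    | zero => simp
    | add z z' hz hz' => simp only [map_add, hz, hz']
    | tmul c a => simp [dualBC_tmul])
  map_add' x y := WithConv.ext (LinearMap.ext fun z => by
    induction z using TensorProduct.induction_on with
    | zero => simp
    | add z z' hz hz' => simp only [map_add, hz, hz']
    | tmul c a => simp [dualBC_tmul, add_smul])

section generic

variable {S : Type u} [CommRing S] {D : Type v} [Ring D] [Algebra S D] {n : ℕ} (bD : Module.Basis (Fin n) S D)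

/-- The generic element. -/
def genElt : MvPolynomial (Fin n) S ⊗[S] D := ∑ i, MvPolynomial.X i ⊗ₜ bD i

/-- Coordinates of the powers of the generic element. -/
def genMat : Matrix (Fin n) (Fin n) (MvPolynomial (Fin n) S) :=
  Matrix.of fun i j => (Algebra.TensorProduct.basis (MvPolynomial (Fin n) S) bD).repr (genElt bD ^ (j : ℕ)) i

theorem det_smul_basis (i : Fin n) :
    (genMat bD).det • ((1 : MvPolynomial (Fin n) S) ⊗ₜ[S] bD i) = ∑ j, (genMat bD).adjugate j i • genElt bD ^ (j : ℕ) := by
  classical
  refine (Algebra.TensorProduct.basis (MvPolynomial (Fin n) S) bD).ext_elem fun k => ?_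
  rw [← Algebra.TensorProduct.basis_apply, map_smul, map_sum, Finsupp.finsetSum_apply, Module.Basis.repr_self,
    Finsupp.smul_apply, Finsupp.single_apply, smul_eq_mul]
  simp only [map_smul, Finsupp.smul_apply, smul_eq_mul]
  rw [Finset.sum_congr rfl fun j _ => mul_comm _ _]
  show _ = ((genMat bD) * (genMat bD).adjugate) k i
  rw [Matrix.mul_adjugate]
  simp [Matrix.one_apply, eq_comm]

theorem comm_of_coeff (μ : Fin n →₀ ℕ) (hμ : IsUnit (((genMat bD).det ^ 2).coeff μ)) (x y : D) : x * y = y * x := by
  have hsq : ∀ i j, (genMat bD).det ^ 2 • ((1 : MvPolynomial (Fin n) S) ⊗ₜ[S] (bD i * bD j)) =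
      ((genMat bD).det • ((1 : MvPolynomial (Fin n) S) ⊗ₜ[S] bD i)) *
      ((genMat bD).det • ((1 : MvPolynomial (Fin n) S) ⊗ₜ[S] bD j)) := fun i j => by
    rw [smul_mul_smul_comm, Algebra.TensorProduct.tmul_mul_tmul, one_mul, ← pow_two]
  have hee : ∀ i j, bD i * bD j = bD j * bD i := fun i j => by
    have h : (genMat bD).det ^ 2 • ((1 : MvPolynomial (Fin n) S) ⊗ₜ[S] (bD i * bD j)) =
        (genMat bD).det ^ 2 • ((1 : MvPolynomial (Fin n) S) ⊗ₜ[S] (bD j * bD i)) := by
      rw [hsq, hsq, det_smul_basis, det_smul_basis, Finset.sum_mul_sum, Finset.sum_mul_sum, Finset.sum_comm]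
      refine Finset.sum_congr rfl fun s _ => Finset.sum_congr rfl fun t _ => ?_
      rw [smul_mul_smul_comm, smul_mul_smul_comm, ← pow_add, ← pow_add, mul_comm, add_comm]
    refine bD.ext_elem fun l => ?_
    have hl := congrArg (fun z => ((Algebra.TensorProduct.basis (MvPolynomial (Fin n) S) bD).repr z l).coeff μ) h
    simp only [map_smul, Finsupp.smul_apply, Algebra.TensorProduct.basis_repr_tmul, smul_eq_mul, one_smul,
      Finsupp.mapRange_apply, MvPolynomial.algebraMap_eq, mul_comm _ (MvPolynomial.C _), MvPolynomial.coeff_C_mul] at hl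
    exact hμ.mul_right_cancel hl
  rw [← bD.sum_repr x, ← bD.sum_repr y, Finset.sum_mul_sum, Finset.sum_mul_sum, Finset.sum_comm]
  refine Finset.sum_congr rfl fun s _ => Finset.sum_congr rfl fun t _ => ?_
  rw [smul_mul_smul_comm, smul_mul_smul_comm, hee, mul_comm]

theorem exists_unit_coeff {κ : Type*} [Field κ] [Algebra S κ] (hκ : ∀ r : S, ¬ IsUnit r → algebraMap S κ r = 0)
    {D' : Type*} [Ring D'] [Algebra κ D'] [Algebra S D'] [IsScalarTower S κ D'] (ψ : D →ₐ[S] D')
    (bD' : Module.Basis (Fin n) κ D') (hψ : ∀ i, ψ (bD i) = bD' i) (ξ : D')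
    (hξ : LinearIndependent κ fun i : Fin n => ξ ^ (i : ℕ)) :
    ∃ μ, IsUnit (((genMat bD).det ^ 2).coeff μ) := by
  classical
  let σ : MvPolynomial (Fin n) S →ₐ[S] κ := MvPolynomial.aeval fun i => bD'.repr ξ i
  let spec : MvPolynomial (Fin n) S ⊗[S] D →ₐ[S] D' :=
    Algebra.TensorProduct.lift ((IsScalarTower.toAlgHom S κ D').comp σ) ψ fun c z => Algebra.commute_algebraMap_left _ _
  have hspec : ∀ c z, spec (c ⊗ₜ z) = σ c • ψ z := fun c z => by
    rw [Algebra.smul_def]; rfl
  have hev : ∀ z i, bD'.repr (spec z) i = σ ((Algebra.TensorProduct.basis (MvPolynomial (Fin n) S) bD).repr z i) := by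
    intro z
    induction z using TensorProduct.induction_on with
    | zero => simp
    | add z z' hz hz' => intro i; simp only [map_add, Finsupp.add_apply, hz, hz']
    | tmul c z =>
      intro i
      rw [hspec, map_smul, Finsupp.smul_apply, Algebra.TensorProduct.basis_repr_tmul, Finsupp.smul_apply,
        Finsupp.mapRange_apply, smul_eq_mul, smul_eq_mul, map_mul, AlgHom.commutes]
      congr 1
      conv_lhs => rw [← bD.sum_repr z]
      simp only [map_sum, map_smul, hψ, Finsupp.finsetSum_apply, ← algebraMap_smul κ (bD.repr z _)]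
      simp [Finsupp.single_apply, Algebra.algebraMap_eq_smul_one]
  have hgen : spec (genElt bD) = ξ := by
    simp only [genElt, map_sum, hspec, hψ, σ, MvPolynomial.aeval_X]
    exact bD'.sum_repr ξ
  have hdet : σ (genMat bD).det ≠ 0 := by
    rw [AlgHom.map_det]
    intro h0
    obtain ⟨c, hc, hc0⟩ := Matrix.exists_mulVec_eq_zero_iff.2 h0
    refine hc (funext fun j => ?_)
    refine (Fintype.linearIndependent_iff.1 hξ c) (bD'.ext_elem fun i => ?_) j
    have h := congrFun hc0 i
    simp only [Matrix.mulVec, dotProduct, AlgHom.mapMatrix_apply, Matrix.map_apply, genMat, Matrix.of_apply, ← hev, map_pow,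
      hgen, Pi.zero_apply] at h
    simp only [map_sum, map_smul, Finsupp.finsetSum_apply, Finsupp.smul_apply, smul_eq_mul, map_zero, Finsupp.zero_apply]
    exact Eq.trans (Finset.sum_congr rfl fun s _ => mul_comm _ _) h
  by_contra hcon
  push Not at hcon
  refine hdet (pow_eq_zero_iff two_ne_zero |>.1 ?_)
  rw [← map_pow, MvPolynomial.aeval_def, MvPolynomial.eval₂_eq]
  exact Finset.sum_eq_zero fun μ _ => by rw [hκ _ (hcon μ), zero_mul]

end generic

/-- The dual basis, in the dual algebra. -/
def dualBasisD {S : Type u} [CommRing S] {M : Type v} [AddCommGroup M] [Module S M] {n : ℕ} (b : Module.Basis (Fin n) S M) :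
    Module.Basis (Fin n) S (CartDual.D S M) :=
  b.dualBasis.map (CartDual.toDual S M).symm

theorem dualBasisD_ofConv {S : Type u} [CommRing S] {M : Type v} [AddCommGroup M] [Module S M] {n : ℕ}
    (b : Module.Basis (Fin n) S M) (i : Fin n) : (dualBasisD b i).ofConv = b.coord i := by
  rw [← b.coe_dualBasis]; rfl

theorem dual_comm_of_isLocalRing [IsLocalRing R] [Module.Finite R A] [Module.Free R A] {p : ℕ} [Fact p.Prime]
    (hd : Module.finrank R A = p) (x y : CartDual.D R A) : x * y = y * x := by
  let b : Module.Basis (Fin p) R A := Module.finBasisOfFinrankEq R A hd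
  let κ := AlgebraicClosure (IsLocalRing.ResidueField R)
  let bK : Module.Basis (Fin p) κ (κ ⊗[R] A) := Algebra.TensorProduct.basis κ b
  obtain ⟨ξ, hξ⟩ := exists_powers_linearIndependent (K := κ) (B := κ ⊗[R] A) (p := p)
    (by rw [Module.finrank_eq_card_basis bK, Fintype.card_fin])
  let ψ : CartDual.D R A →ₐ[R] CartDual.D κ (κ ⊗[R] A) :=
    { dualBCHom κ with
      commutes' := fun r => by
        apply WithConv.ext
        apply LinearMap.ext
        intro z
        induction z using TensorProduct.induction_on with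
        | zero => simp
        | add z z' hz hz' => simp only [map_add, hz, hz']
        | tmul c a =>
          show (dualBC κ (algebraMap R (CartDual.D R A) r)).ofConv (c ⊗ₜ a) =
            (algebraMap R (CartDual.D κ (κ ⊗[R] A)) r).ofConv (c ⊗ₜ a)
          rw [Algebra.algebraMap_eq_smul_one, Algebra.algebraMap_eq_smul_one, dualBC_tmul]
          show (r • algebraMap R R (counit (R := R) a)) • c =
            r • algebraMap κ κ (counit (R := κ) (c ⊗ₜ[R] a))
          rw [TensorProduct.counit_tmul]
          simp [smul_smul] }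
  haveI : IsScalarTower R κ (CartDual.D κ (κ ⊗[R] A)) :=
    ⟨fun r c z => WithConv.ext (LinearMap.ext fun w => smul_assoc r c (z.ofConv w))⟩
  obtain ⟨μ, hμ⟩ := exists_unit_coeff (dualBasisD b) (κ := κ)
    (fun r hr => by
      rw [IsScalarTower.algebraMap_apply R (IsLocalRing.ResidueField R) κ, IsLocalRing.ResidueField.algebraMap_eq,
        (IsLocalRing.residue_eq_zero_iff _).2 ((IsLocalRing.mem_maximalIdeal _).2 hr), map_zero])
    ψ (dualBasisD bK)
    (fun i => WithConv.ext (bK.ext fun j => by
      show (dualBC κ (dualBasisD b i)).ofConv (bK j) = (dualBasisD bK i).ofConv (bK j)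
      rw [Algebra.TensorProduct.basis_apply, dualBC_tmul, dualBasisD_ofConv, dualBasisD_ofConv]
      simp [bK, Finsupp.single_apply, apply_ite (algebraMap R κ)]))
    ξ hξ
  exact comm_of_coeff (dualBasisD b) μ hμ x y

/-- Group schemes of prime order are commutative. -/
theorem isCocomm_of_rankAtStalk {p : ℕ} [Fact p.Prime] [Module.Finite R A] [Module.Projective R A]
    (hrk : ∀ q : PrimeSpectrum R, Module.rankAtStalk A q = p) : Coalgebra.IsCocomm R A := by
  refine isCocomm_of_dual_comm fun x y => ?_
  rw [← sub_eq_zero]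
  refine WithConv.ext (LinearMap.ext fun a => ?_)
  refine Module.eq_zero_of_localization_maximal (R := R) _
    (fun (P : Ideal R) (_ : P.IsMaximal) => Algebra.linearMap R (Localization.AtPrime P)) _ fun P _ => ?_
  let L := Localization.AtPrime P
  haveI : Module.Free L (L ⊗[R] A) := Module.free_of_flat_of_isLocalRing
  have hd : Module.finrank L (L ⊗[R] A) = p := by
    let q : PrimeSpectrum L := Classical.arbitrary _
    have h1 := congrFun (Module.rankAtStalk_eq_finrank_of_free (R := L) (M := L ⊗[R] A)) q
    rw [Module.rankAtStalk_baseChange, hrk] at h1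
    simpa using h1.symm
  have hc := dual_comm_of_isLocalRing (R := L) (A := L ⊗[R] A) hd (dualBC L x) (dualBC L y)
  rw [← dualBC_mul, ← dualBC_mul] at hc
  have h := congrArg (fun z : CartDual.D L (L ⊗[R] A) => z.ofConv (1 ⊗ₜ a)) hc
  simp only [dualBC_tmul, Algebra.smul_def, mul_one] at h
  simp only [ofConv_sub, LinearMap.sub_apply, Algebra.linearMap_apply, map_sub]
  exact sub_eq_zero.2 h

end HopfOrdLib
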